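import Groth.Agent.TraitCharZeroLib.Dvr
import Groth.Agent.EtRegAcycLib.DvrReg
import Groth.Prelude.Def_VanCyc
import Mathlib.AlgebraicGeometry.Morphisms.Finite

/-!
# The intermediate trait of an extension of traits in equal characteristic zero
-/

set_option autoImplicit false
set_option linter.all false
set_option backward.isDefEq.respectTransparency false
set_option backward.isDefEq.respectTransparency.types false
set_option maxHeartbeats 1600000

universe u

open CategoryTheory CategoryTheory.Limits AlgebraicGeometry IsLocalRing Polynomial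
open scoped TensorProduct

noncomputable section

namespace TraitCharZeroLib

section Mid

variable {R : Type u} [CommRing R] [IsDomain R] [IsDiscreteValuationRing R] [HenselianLocalRing R]
  [IsAlgClosed (ResidueField R)] [CharZero (ResidueField R)]
  {R' : Type u} [CommRing R'] [IsDomain R'] [IsDiscreteValuationRing R'] [Algebra R R'] {ρ : R'}

/-- The intermediate ring. -/
abbrev Mid (R : Type u) [CommRing R] {R' : Type u} [CommRing R'] [Algebra R R'] (ρ : R') : Type u :=
  Algebra.adjoin R ({ρ} : Set R')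

/-- The element of the intermediate ring. -/
abbrev gen (R : Type u) [CommRing R] {R' : Type u} [CommRing R'] [Algebra R R'] (ρ : R') : Mid R ρ :=
  ⟨ρ, Algebra.self_mem_adjoin_singleton R ρ⟩

variable (hinj : Function.Injective (algebraMap R R')) {π : R} (hπ : Irreducible π) {e : ℕ} (he : 0 < e)
  (hρe : ρ ^ e = algebraMap R R' π)

include hρe he in
theorem finite_mid : Module.Finite R (Mid R ρ) := by
  have hint : IsIntegral R ρ := ⟨X ^ e - C π, monic_X_pow_sub_C _ he.ne', by simp [hρe]⟩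
  exact Module.Finite.iff_fg.2 hint.fg_adjoin_singleton

include hinj hπ he hρe in
theorem structure_mid (hρ : Irreducible ρ) : IsDiscreteValuationRing (Mid R ρ) ∧ HenselianLocalRing (Mid R ρ) ∧
    Irreducible (gen R ρ) := by
  haveI := finite_mid he hρe
  haveI := isLocalRing_of_finite_domain R (Mid R ρ)
  have hinj' : Function.Injective (algebraMap R (Mid R ρ)) := fun a b h => hinj (congrArg Subtype.val h)
  have hint : Algebra.IsIntegral R (Mid R ρ) := inferInstance
  haveI : IsLocalHom (algebraMap R (Mid R ρ)) := (algebraMap_isIntegral_iff.2 hint).isLocalHom hinj'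
  have hgu : gen R ρ ∈ maximalIdeal (Mid R ρ) := fun h => hρ.not_isUnit (h.map (Subalgebra.val _))
  have hmax : maximalIdeal (Mid R ρ) = Ideal.span {gen R ρ} := by
    refine le_antisymm (fun b hb => ?_) ((Ideal.span_singleton_le_iff_mem _).2 hgu)
    obtain ⟨P, hP⟩ : ∃ P : R[X], aeval ρ P = (b : R') :=
      (Algebra.adjoin_singleton_eq_range_aeval R ρ).le b.2
    have hb' : b = algebraMap R (Mid R ρ) (P.coeff 0) + gen R ρ * aeval (gen R ρ) P.divX := by
      refine Subtype.ext (hP.symm.trans ?_)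
      show aeval ρ P = algebraMap R R' (P.coeff 0) + ρ * (Subalgebra.val _) (aeval (gen R ρ) P.divX)
      rw [← aeval_algHom_apply]
      conv_lhs => rw [← X_mul_divX_add P]
      rw [map_add, map_mul, aeval_X, aeval_C, add_comm]
      rfl
    have h0 : algebraMap R (Mid R ρ) (P.coeff 0) ∈ maximalIdeal (Mid R ρ) := by
      have := Ideal.sub_mem _ hb (Ideal.mul_mem_right (aeval (gen R ρ) P.divX) _ hgu)
      rwa [hb', add_sub_cancel_right] at this
    have h1 : P.coeff 0 ∈ maximalIdeal R := fun h => h0 (h.map _)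
    rw [hπ.maximalIdeal_eq, Ideal.mem_span_singleton] at h1
    obtain ⟨c, hc⟩ := h1
    rw [hb']
    refine Ideal.add_mem _ ?_ (Ideal.mul_mem_right _ _ (Ideal.mem_span_singleton_self _))
    rw [hc, map_mul]
    refine Ideal.mul_mem_right _ _ (Ideal.mem_span_singleton.2 ⟨gen R ρ ^ (e - 1), Subtype.ext ?_⟩)
    show algebraMap R R' π = ρ * ρ ^ (e - 1)
    rw [← pow_succ', Nat.sub_add_cancel he, hρe]
  haveI : IsNoetherianRing (Mid R ρ) := IsNoetherianRing.of_finite R (Mid R ρ)
  have hgne : gen R ρ ≠ 0 := fun h => hρ.ne_zero (congrArg Subtype.val h)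
  have hnf : ¬IsField (Mid R ρ) := fun h => hgne (by
    have : maximalIdeal (Mid R ρ) = ⊥ := (isField_iff_maximalIdeal_eq).1 h
    rw [hmax, Ideal.span_singleton_eq_bot] at this
    exact this)
  haveI : IsDiscreteValuationRing (Mid R ρ) :=
    ((IsDiscreteValuationRing.TFAE (Mid R ρ) hnf).out 0 4).2 (by rw [hmax]; exact ⟨⟨_, rfl⟩⟩)
  exact ⟨inferInstance, Groth.Agent.S0505.result R (Mid R ρ),
    (IsDiscreteValuationRing.irreducible_iff_uniformizer _).2 hmax⟩

end Mid

section Roots

variable {R K Ω R' K' Ω' : Type u} [CommRing R] [IsDomain R] [IsDiscreteValuationRing R] [Field K] [Algebra R K]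
  [IsFractionRing R K] [CharZero K] [Field Ω] [Algebra K Ω] [IsSepClosure K Ω] [Algebra R Ω] [IsScalarTower R K Ω]
  [CommRing R'] [Algebra R R'] [Field Ω'] [Algebra R' Ω'] [Algebra Ω Ω'] [Algebra R Ω']
  [IsScalarTower R Ω Ω'] [IsScalarTower R R' Ω']

include K in
/-- The intermediate ring maps to the smaller separable closure. -/
theorem exists_toClosure {π : R} (hπ : π ≠ 0) {ρ : R'} {e : ℕ} (he : 0 < e) (hρe : ρ ^ e = algebraMap R R' π) :
    ∃ φ : Mid R ρ →ₐ[R] Ω, ∀ x, algebraMap Ω Ω' (φ x) = algebraMap R' Ω' (x : R') := by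
  haveI : IsSepClosed Ω := IsSepClosure.sep_closed K
  haveI : CharZero Ω := charZero_of_injective_ringHom (algebraMap K Ω).injective
  have hsep : (X ^ e - C (algebraMap R Ω π)).Separable := by
    refine separable_X_pow_sub_C _ (by exact_mod_cast he.ne') ?_
    rw [IsScalarTower.algebraMap_apply R K Ω]
    simpa using (IsFractionRing.injective R K).ne hπ
  have hroot : ((X ^ e - C (algebraMap R Ω π)).map (algebraMap Ω Ω')).IsRoot (algebraMap R' Ω' ρ) := by
    simp [IsRoot, ← map_pow, hρe, ← IsScalarTower.algebraMap_apply]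
  obtain ⟨w, hw⟩ := (IsSepClosed.splits_of_separable _ hsep).mem_range_of_isRoot (monic_X_pow_sub_C _ he.ne').ne_zero
    hroot
  let i : Ω →ₐ[R] Ω' := IsScalarTower.toAlgHom R Ω Ω'
  let a : Mid R ρ →ₐ[R] Ω' := (IsScalarTower.toAlgHom R R' Ω').comp (Subalgebra.val _)
  have ha : ∀ x, a x ∈ i.range := by
    intro x
    obtain ⟨x, hx⟩ := x
    have hle : Algebra.adjoin R ({ρ} : Set R') ≤ i.range.comap (IsScalarTower.toAlgHom R R' Ω') :=
      Algebra.adjoin_le (Set.singleton_subset_iff.2 ⟨w, hw⟩)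
    exact hle hx
  let ei : Ω ≃ₐ[R] i.range := AlgEquiv.ofInjective i (algebraMap Ω Ω').injective
  refine ⟨ei.symm.toAlgHom.comp (a.codRestrict _ ha), fun x => ?_⟩
  exact congrArg Subtype.val (ei.apply_symm_apply (a.codRestrict _ ha x))

end Roots

open VanCyc

section Geometry

variable {R Re R' Ω Ω' : Type u} [CommRing R] [CommRing Re] [CommRing R'] [Field Ω] [Field Ω'] [Algebra R Re]
  [Algebra R R'] [Algebra Re R'] [IsScalarTower R Re R'] [Algebra R Ω] [Algebra Re Ω] [IsScalarTower R Re Ω]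
  [Algebra R' Ω'] [Algebra Ω Ω'] [Algebra R Ω'] [Algebra Re Ω'] [IsScalarTower R Ω Ω'] [IsScalarTower R R' Ω']
  [IsScalarTower Re Ω Ω'] [IsScalarTower Re R' Ω']
  {X : Scheme.{u}} (f : X ⟶ Spec (CommRingCat.of R))

/-- The map of the geometric generic fibre to the intermediate scheme. -/
def jMid : fib R f Ω ⟶ bcX Re f :=
  pullback.lift (jA R f Ω) (fibStr R f Ω ≫ toS Re Ω) (by rw [Category.assoc, toS_comp]; exact pullback.condition)

/-- The map of the base change to the intermediate scheme. -/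
def pMid : bcX R' f ⟶ bcX Re f :=
  pullback.lift (bcπ R' f) (bcf R' f ≫ toS Re R') (by rw [Category.assoc, toS_comp]; exact pullback.condition)

theorem jMid_fst : jMid (Re := Re) (Ω := Ω) f ≫ bcπ Re f = jA R f Ω := pullback.lift_fst _ _ _

theorem pMid_fst : pMid (Re := Re) (R' := R') f ≫ bcπ Re f = bcπ R' f := pullback.lift_fst _ _ _

theorem isPullback_pMid :
    IsPullback (pMid (Re := Re) (R' := R') f) (bcf R' f) (bcf Re f) (toS Re R') := by
  refine IsPullback.of_right ?_ (pullback.lift_snd _ _ _) (IsPullback.of_hasPullback f (toS R Re))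
  rw [pMid, pullback.lift_fst, toS_comp]
  exact IsPullback.of_hasPullback f (toS R R')

theorem isPullback_jMid :
    IsPullback (jMid (Re := Re) (Ω := Ω) f) (fibStr R f Ω) (bcf Re f) (toS Re Ω) := by
  refine IsPullback.of_right ?_ (pullback.lift_snd _ _ _) (IsPullback.of_hasPullback f (toS R Re))
  rw [jMid, pullback.lift_fst, toS_comp]
  exact IsPullback.of_hasPullback f (toS R Ω)

theorem geomChange_snd : geomChange R' Ω Ω' f ≫ pullback.snd f (toS R Ω) =
    pullback.snd (bcf R' f) (toS R' Ω') ≫ toS Ω Ω' :=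
  pullback.lift_snd _ _ _

theorem geomChange_jMid : geomChange R' Ω Ω' f ≫ jMid (Re := Re) (Ω := Ω) f =
    jA R' (bcf R' f) Ω' ≫ pMid (Re := Re) (R' := R') f := by
  apply pullback.hom_ext
  · rw [Category.assoc, Category.assoc]
    exact (congrArg (_ ≫ ·) (jMid_fst f)).trans ((geomChange_jA R' Ω Ω' f).trans (congrArg (_ ≫ ·) (pMid_fst f).symm))
  · rw [Category.assoc, Category.assoc]
    refine (congrArg (_ ≫ ·) (pullback.lift_snd _ _ _)).trans ?_
    refine Eq.trans ?_ (congrArg (_ ≫ ·) (pullback.lift_snd _ _ _)).symm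
    rw [← Category.assoc, geomChange_snd, Category.assoc, toS_comp, ← Category.assoc, pullback.condition,
      Category.assoc, toS_comp]

theorem isPullback_geomChange [Algebra.IsPushout Re Ω R' Ω'] :
    IsPullback (geomChange R' Ω Ω' f) (jA R' (bcf R' f) Ω') (jMid (Re := Re) (Ω := Ω) f)
      (pMid (Re := Re) (R' := R') f) := by
  have sq : IsPullback (toS Ω Ω') (toS R' Ω') (toS Re Ω) (toS Re R') :=
    isPullback_SpecMap_of_isPushout _ _ _ _ (CommRingCat.isPushout_of_isPushout Re Ω R' Ω')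
  have outer : IsPullback (geomChange R' Ω Ω' f ≫ jMid (Re := Re) (Ω := Ω) f) (pullback.snd (bcf R' f) (toS R' Ω'))
      (bcf Re f) (toS Ω Ω' ≫ toS Re Ω) := by
    rw [geomChange_jMid, sq.w]
    exact (IsPullback.of_hasPullback (bcf R' f) (toS R' Ω')).paste_horiz (isPullback_pMid f)
  have h2 := (outer.of_right (geomChange_snd f) (isPullback_jMid f)).paste_vert sq
  rw [← pullback.condition, show fibStr R f Ω ≫ toS Re Ω = jMid (Re := Re) (Ω := Ω) f ≫ bcf Re f from
    (pullback.lift_snd _ _ _).symm] at h2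
  exact IsPullback.of_bot h2 (geomChange_jMid f) (isPullback_pMid f)

end Geometry

end TraitCharZeroLib

namespace TraitCharZeroLib

theorem isAlgClosed_of_charZero (k : Type u) [Field k] [IsSepClosed k] [CharZero k] : IsAlgClosed k :=
  IsAlgClosed.of_exists_root k fun p _ hirr =>
    IsSepClosed.exists_root p (degree_pos_of_irreducible hirr).ne' (PerfectField.separable_of_irreducible hirr)

open VanCyc

/-- Points over the closed point are alone above their images. -/
theorem eq_of_special {R R' : Type u} [CommRing R] [CommRing R'] [IsLocalRing R'] [Algebra R R']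
    {X : Scheme.{u}} (f : X ⟶ Spec (CommRingCat.of R)) {π : R} {ρ : R'} {e : ℕ} (he : 0 < e)
    (hρe : ρ ^ e = algebraMap R R' π) (hρ : ρ ∈ maximalIdeal R')
    {Ω₀ : Type u} [Field Ω₀] (ξ : Spec (CommRingCat.of Ω₀) ⟶ spFib R' (bcf R' f))
    (u : Spec (CommRingCat.of Ω₀) ⟶ bcX (Mid R ρ) f)
    (hu : u ≫ bcπ (Mid R ρ) f =
      ((ξ ≫ icl R' (bcf R' f)) ≫ pMid (Re := Mid R ρ) (R' := R') f) ≫ bcπ (Mid R ρ) f) :
    u = (ξ ≫ icl R' (bcf R' f)) ≫ pMid (Re := Mid R ρ) (R' := R') f := by
  refine pullback.hom_ext hu ?_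
  let v := (ξ ≫ icl R' (bcf R' f)) ≫ pMid (Re := Mid R ρ) (R' := R') f
  obtain ⟨a, ha⟩ := Spec.map_surjective (u ≫ bcf (Mid R ρ) f)
  obtain ⟨c, hc⟩ := Spec.map_surjective (ξ ≫ spStr R' (bcf R' f))
  let b : CommRingCat.of (Mid R ρ) ⟶ CommRingCat.of Ω₀ :=
    CommRingCat.ofHom (algebraMap (Mid R ρ) R') ≫ CommRingCat.ofHom (residue R') ≫ c
  have hb : Spec.map b = v ≫ bcf (Mid R ρ) f := by
    have e1 : pMid (Re := Mid R ρ) (R' := R') f ≫ bcf (Mid R ρ) f = bcf R' f ≫ toS (Mid R ρ) R' :=
      pullback.lift_snd _ _ _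
    simp only [b, v, Spec.map_comp, hc, Category.assoc, e1]
    rw [← reassoc_of% (pullback.condition : icl R' (bcf R' f) ≫ bcf R' f = spStr R' (bcf R' f) ≫ toSk R')]
  have hR : ∀ r : R, a.hom (algebraMap R (Mid R ρ) r) = b.hom (algebraMap R (Mid R ρ) r) := by
    intro r
    have h2 : Spec.map (CommRingCat.ofHom (algebraMap R (Mid R ρ)) ≫ a) =
        Spec.map (CommRingCat.ofHom (algebraMap R (Mid R ρ)) ≫ b) := by
      rw [Spec.map_comp, Spec.map_comp, ha, hb, Category.assoc, Category.assoc, ← pullback.condition,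
        ← Category.assoc, ← Category.assoc]
      exact congrArg (· ≫ f) hu
    exact congrArg (fun z => z.hom r) (Spec.map_injective h2)
  have hb0 : b.hom (gen R ρ) = 0 := by
    show c.hom (residue R' ρ) = 0
    rw [(residue_eq_zero_iff ρ).2 hρ, map_zero]
  have hg : gen R ρ ^ e = algebraMap R (Mid R ρ) π := Subtype.ext hρe
  have ha0 : a.hom (gen R ρ) = 0 := by
    have h := hR π
    rw [← hg, map_pow, map_pow, hb0, zero_pow he.ne'] at h
    exact (pow_eq_zero_iff he.ne').1 h
  have hab : a = b := by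
    ext x
    obtain ⟨x, hx⟩ := x
    induction hx using Algebra.adjoin_induction with
    | mem z hz =>
      obtain rfl := Set.mem_singleton_iff.1 hz
      exact ha0.trans hb0.symm
    | algebraMap r => exact hR r
    | add p q hp hq h1 h2 =>
      show a.hom (⟨p, hp⟩ + ⟨q, hq⟩) = b.hom (⟨p, hp⟩ + ⟨q, hq⟩)
      rw [map_add, map_add]
      exact congrArg₂ (· + ·) h1 h2
    | mul p q hp hq h1 h2 =>
      show a.hom (⟨p, hp⟩ * ⟨q, hq⟩) = b.hom (⟨p, hp⟩ * ⟨q, hq⟩)
      rw [map_mul, map_mul]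
      exact congrArg₂ (· * ·) h1 h2
  show u ≫ bcf (Mid R ρ) f = v ≫ bcf (Mid R ρ) f
  rw [← ha, ← hb, hab]

end TraitCharZeroLib
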