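import Groth.Agent.TraitCharZeroLib.Factor
import Groth.Agent.EtShLib.FiniteBC
import Groth.Agent.EtBcBridgeLib.Main

/-!
# Base change through a scheme which is radicial over the base at the points in question
-/

set_option autoImplicit false
set_option linter.all false
set_option backward.isDefEq.respectTransparency false
set_option backward.isDefEq.respectTransparency.types false
set_option synthInstance.maxHeartbeats 400000
set_option maxHeartbeats 2000000

universe u

open CategoryTheory CategoryTheory.Limits AlgebraicGeometry Opposite HomologicalComplex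
open Groth.Agent.EtShLib EtBcQLib EtBcBridgeLib EtBcDLib

attribute [local instance] HasDerivedCategory.standard

noncomputable section

namespace TraitCharZeroLib

attribute [local instance] EtSliceLib.pullExact pfl_push pfc_pull

/-- The stalk comparison is bijective at a point which is alone above its image. -/
theorem isIso_compare_of_unique {A B : Scheme.{u}} (g : A ⟶ B) [IsFinite g] {Ω : Type u} [Field Ω] [IsSepClosed Ω]
    [IsAlgClosed Ω] (ξ : Spec (CommRingCat.of Ω) ⟶ A) (hu : ∀ u, u ≫ g = ξ ≫ g → u = ξ) (G : EtCoh.Ab A) :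
    IsIso (compare (A := AddCommGrpCat.{u + 1}) g ξ G) := by
  have hc : liftGerm g G (ξ ≫ g) ⟨ξ, rfl⟩ = compare (A := AddCommGrpCat.{u + 1}) g ξ G := Category.id_comp _
  refine (ConcreteCategory.isIso_iff_bijective _).2 ⟨(injective_iff_map_eq_zero _).2 fun p hp => ?_, fun a => ?_⟩
  · refine liftGerm_jointly_injective g G (ξ ≫ g) p fun u => ?_
    obtain rfl : u = ⟨ξ, rfl⟩ := Subtype.ext (hu u.1 u.2)
    rw [hc]
    exact hp
  · refine ⟨(stk (A := AddCommGrpCat.{u + 1}) (ξ ≫ g)).map ((preι g).app G) (injAt g (ξ ≫ g) G ⟨ξ, rfl⟩ a), ?_⟩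
    rw [← hc]
    exact injAt_comp' g (ξ ≫ g) G ⟨ξ, rfl⟩ a

variable {T Y S V W : Scheme.{u}} (j : T ⟶ Y) (g : Y ⟶ S) (jS : T ⟶ S) (w1 : j ≫ g = jS)

theorem isIso_stk_nu [IsFinite g] {Ω : Type u} [Field Ω] [IsSepClosed Ω]
    [IsAlgClosed Ω] (ξ : Spec (CommRingCat.of Ω) ⟶ Y) (hu : ∀ u, u ≫ g = ξ ≫ g → u = ξ) (M : EtCoh.Ab T) :
    IsIso ((stk (A := AddCommGrpCat.{u + 1}) ξ).map ((nu j g jS w1).app M)) := by
  let θ : (EtCoh.push jS).obj M ⟶ (EtCoh.push g).obj ((EtCoh.push j).obj M) :=
    (EtCoh.pushCongr w1.symm).hom.app M ≫ (EtCoh.pushComp g j).inv.app M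
  haveI : IsIso θ := inferInstance
  haveI := isIso_compare_of_unique g ξ hu ((EtCoh.push j).obj M)
  have e : (stalkPull g ξ AddCommGrpCat.{u + 1}).hom.app ((EtCoh.push jS).obj M) ≫
      (stk (A := AddCommGrpCat.{u + 1}) ξ).map ((nu j g jS w1).app M) =
      (stk (A := AddCommGrpCat.{u + 1}) (ξ ≫ g)).map θ ≫
        compare (A := AddCommGrpCat.{u + 1}) g ξ ((EtCoh.push j).obj M) := by
    have h0 : (nu j g jS w1).app M = (EtCoh.pull g).map θ ≫ (EtCoh.pullPushAdj g).counit.app _ :=
      Adjunction.homEquiv_counit _ _ _ _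
    rw [h0, Functor.map_comp]
    exact ((stalkPull g ξ AddCommGrpCat.{u + 1}).hom.naturality_assoc θ _).symm
  haveI : IsIso ((stalkPull g ξ AddCommGrpCat.{u + 1}).hom.app ((EtCoh.push jS).obj M) ≫
      (stk (A := AddCommGrpCat.{u + 1}) ξ).map ((nu j g jS w1).app M)) := by
    rw [e]
    infer_instance
  exact IsIso.of_isIso_comp_left ((stalkPull g ξ AddCommGrpCat.{u + 1}).hom.app ((EtCoh.push jS).obj M)) _

/-- The factorisation map is invertible after pulling back to points alone in their fibre. -/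
theorem isIso_pull_pull_nu [IsFinite g] (p : W ⟶ Y) (i : V ⟶ W)
    (hu : ∀ (Ω : Type u) [Field Ω] [IsAlgClosed Ω] (ξ : Spec (CommRingCat.of Ω) ⟶ V),
      ∀ u, u ≫ g = ((ξ ≫ i) ≫ p) ≫ g → u = (ξ ≫ i) ≫ p) (M : EtCoh.Ab T) :
    IsIso ((EtCoh.pull i).map ((EtCoh.pull p).map ((nu j g jS w1).app M))) := by
  refine isIso_of_stalks_algClosed _ fun Ω _ _ _ ξ => ?_
  have h3 := isIso_stk_nu j g jS w1 ((ξ ≫ i) ≫ p) (hu Ω ξ) M
  have h2 : IsIso ((stk (A := AddCommGrpCat.{u + 1}) (ξ ≫ i)).map ((EtCoh.pull p).map ((nu j g jS w1).app M))) :=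
    (NatIso.isIso_map_iff (stalkPull p (ξ ≫ i) AddCommGrpCat.{u + 1}) ((nu j g jS w1).app M)).1 h3
  exact (NatIso.isIso_map_iff (stalkPull i ξ AddCommGrpCat.{u + 1}) _).1 h2

variable {Z : Scheme.{u}} (p : W ⟶ Y) (q : W ⟶ S) (w2 : p ≫ g = q) (h : Z ⟶ W) (e : Z ⟶ T) (w3 : e ≫ j = h ≫ p)
  (w4 : e ≫ jS = h ≫ q) (i : V ⟶ W)

/-- The factorisation map on complexes. -/
def nuN (K : CochainComplex (EtCoh.Ab T) ℕ) :
    ((EtCoh.pull g).mapHomologicalComplex (ComplexShape.up ℕ)).obj
      (((EtCoh.push jS).mapHomologicalComplex _).obj K) ⟶ ((EtCoh.push j).mapHomologicalComplex _).obj K where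
  f n := (nu j g jS w1).app (K.X n)
  comm' a b _ := ((nu j g jS w1).naturality (K.d a b)).symm

/-- The transport of inverse images on complexes. -/
def cViaN (K : CochainComplex (EtCoh.Ab S) ℕ) :
    ((EtCoh.pull p).mapHomologicalComplex (ComplexShape.up ℕ)).obj
      (((EtCoh.pull g).mapHomologicalComplex _).obj K) ⟶ ((EtCoh.pull q).mapHomologicalComplex _).obj K where
  f n := (cVia p g q w2).app (K.X n)
  comm' a b _ := ((cVia p g q w2).naturality (K.d a b)).symm

theorem isIso_map_homologyMap {A B : Scheme.{u}} (m : A ⟶ B) {K L : CochainComplex (EtCoh.Ab B) ℕ} (φ : K ⟶ L) (k : ℕ) :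
    IsIso ((EtCoh.pull m).map (homologyMap φ k)) ↔
      IsIso (homologyMap (((EtCoh.pull m).mapHomologicalComplex (ComplexShape.up ℕ)).map φ) k) := by
  haveI := isIso_homologyComparison (G := EtCoh.pull m) K k
  haveI := isIso_homologyComparison (G := EtCoh.pull m) L k
  exact ((MorphismProperty.isomorphisms _).arrow_mk_iso_iff (Arrow.isoMk
    (asIso (RDer.homologyComparison (EtCoh.pull m) K k)) (asIso (RDer.homologyComparison (EtCoh.pull m) L k))
    (homologyComparison_naturality (EtCoh.pull m) φ k))).symm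

include w1 w2 w3 in
/-- Base change for the composite, after restriction. -/
theorem isIso_pull_bcQ (G : EtCoh.Ab T)
    (hν : ∀ M, IsIso ((EtCoh.pull i).map ((EtCoh.pull p).map ((nu j g jS w1).app M))))
    (hbc : ∀ k, IsIso (EtBC.bcQ j p h e w3 k G)) (k : ℕ) :
    IsIso ((EtCoh.pull i).map (EtBC.bcQ jS q h e w4 k G)) := by
  let I := injectiveResolution G
  let J := injectiveResolution ((EtCoh.pull e).obj G)
  let Ti := (EtCoh.pull i).mapHomologicalComplex (ComplexShape.up ℕ)
  let P1 := ((EtCoh.pull p).mapHomologicalComplex (ComplexShape.up ℕ)).map (nuN j g jS w1 I.cocomplex)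
  let C := cViaN g p q w2 (((EtCoh.push jS).mapHomologicalComplex _).obj I.cocomplex)
  have heq : C ≫ psiN jS q h e w4 I J = P1 ≫ psiN j p h e w3 I J := by
    refine HomologicalComplex.hom_ext _ _ fun n => ?_
    exact (Category.assoc _ _ _).symm.trans
      ((congrArg (· ≫ (EtCoh.push h).map ((jMap e I J).f n))
        (bc0_factor j g jS w1 p q w2 h e w3 w4 (I.cocomplex.X n))).trans (Category.assoc _ _ _))
  haveI : IsIso (Ti.map P1) := by
    haveI : ∀ n, IsIso ((Ti.map P1).f n) := fun n => hν (I.cocomplex.X n)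
    exact HomologicalComplex.Hom.isIso_of_components _
  haveI : IsIso C := by
    haveI : ∀ n, IsIso (C.f n) := fun n =>
      inferInstanceAs (IsIso ((cVia p g q w2).app (((EtCoh.push jS).obj (I.cocomplex.X n)))))
    exact HomologicalComplex.Hom.isIso_of_components _
  haveI : IsIso (homologyMap (psiN j p h e w3 I J) k) := by
    rw [homologyMap_psiN]
    haveI := isIso_homologyComparison (G := EtCoh.pull p) (((EtCoh.push j).mapHomologicalComplex _).obj I.cocomplex) k
    haveI := hbc k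
    infer_instance
  have h1 : IsIso (homologyMap (Ti.map (psiN j p h e w3 I J)) k) := (isIso_map_homologyMap i _ k).1 inferInstance
  have h2 : IsIso (homologyMap (Ti.map (psiN jS q h e w4 I J)) k) := by
    have h3 : homologyMap (Ti.map C) k ≫ homologyMap (Ti.map (psiN jS q h e w4 I J)) k =
        homologyMap (Ti.map P1) k ≫ homologyMap (Ti.map (psiN j p h e w3 I J)) k := by
      rw [← homologyMap_comp, ← homologyMap_comp, ← Functor.map_comp, ← Functor.map_comp, heq]
    haveI := h1
    haveI : IsIso (homologyMap (Ti.map C) k ≫ homologyMap (Ti.map (psiN jS q h e w4 I J)) k) := by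
      rw [h3]; infer_instance
    exact IsIso.of_isIso_comp_left (homologyMap (Ti.map C) k) _
  have h4 := (isIso_map_homologyMap i _ k).2 h2
  haveI := isIso_homologyComparison (G := EtCoh.pull q) (((EtCoh.push jS).mapHomologicalComplex _).obj I.cocomplex) k
  have h5 : EtBC.bcQ jS q h e w4 k G =
      inv (RDer.homologyComparison (EtCoh.pull q) _ k ≫ (EtCoh.pull q).map (I.isoRightDerivedObj (EtCoh.push jS) k).inv) ≫
        homologyMap (psiN jS q h e w4 I J) k ≫ (J.isoRightDerivedObj (EtCoh.push h) k).inv := by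
    rw [IsIso.eq_inv_comp, homologyMap_psiN]
    simp only [Category.assoc, Iso.hom_inv_id, Category.comp_id]
  haveI := h4
  rw [h5, Functor.map_comp, Functor.map_comp]
  infer_instance

include w1 w2 w3 in
/-- The derived base change morphism of the composite, after restriction. -/
theorem isIso_pullD_bcMap [DCoh.HasRpushEt T jS] [DCoh.HasRpushEt Z h] [DCoh.HasRpushEt W q]
    (adj : EtBC.pullD q ⊣ DCoh.RpushEt W q) (G : EtCoh.Ab T)
    (hν : ∀ M, IsIso ((EtCoh.pull i).map ((EtCoh.pull p).map ((nu j g jS w1).app M))))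
    (hbc : ∀ k, IsIso (EtBC.bcQ j p h e w3 k G)) :
    IsIso ((EtBC.pullD i).map (EtBC.bcMap jS q h e w4 adj (EtBC.single T G))) := by
  rw [DerivedCategory.isIso_iff]
  intro n
  refine (NatIso.isIso_map_iff (Groth.Agent.DerLib.ExactHomology.homologyIso (EtCoh.pull i) n)
    (EtBC.bcMap jS q h e w4 adj (EtBC.single T G))).2 ?_
  show IsIso ((EtCoh.pull i).map ((DerivedCategory.homologyFunctor (EtCoh.Ab W) n).map
    (EtBC.bcMap jS q h e w4 adj (EtBC.single T G))))
  rcases lt_or_ge n 0 with hn | hn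
  · haveI := EtBcBridgeLib.isIso_neg jS q h e w4 adj G n hn
    infer_instance
  · obtain ⟨k, rfl⟩ := Int.eq_ofNat_of_zero_le hn
    obtain ⟨φ⟩ := nonempty_bcMap_arrow jS q h e w4 adj G k
    obtain ⟨ψ⟩ := nonempty_arrow_map (EtCoh.pull i) φ
    exact ((MorphismProperty.isomorphisms _).arrow_mk_iso_iff ψ).2
      (isIso_pull_bcQ j g jS w1 p q w2 h e w3 w4 i G hν hbc k)

end TraitCharZeroLib
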