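import Groth.Agent.S0505
import Groth.Agent.S0499
import Groth.Agent.KaehlerFlatLib.Basic
import Groth.Agent.TransLib.Popescu
import Groth.Agent.TraitCplLib.Field
import Mathlib.RingTheory.DiscreteValuationRing.TFAE
import Mathlib.RingTheory.Polynomial.Eisenstein.Basic
import Mathlib.FieldTheory.IsAlgClosed.Basic
import Mathlib.RingTheory.Nakayama

/-!
# Henselian discrete valuation rings with algebraically closed residue field of characteristic zero
-/

set_option autoImplicit false
set_option linter.all false
set_option backward.isDefEq.respectTransparency false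
set_option backward.isDefEq.respectTransparency.types false
set_option maxHeartbeats 1600000

universe u

open IsLocalRing Polynomial
open scoped TensorProduct

noncomputable section

namespace TraitCharZeroLib

/-- A finite domain over a henselian local ring is local. -/
theorem isLocalRing_of_finite_domain (R S : Type u) [CommRing R] [HenselianLocalRing R] [CommRing S] [IsDomain S]
    [Algebra R S] [Module.Finite R S] : IsLocalRing S := by
  classical
  obtain ⟨ι, _, A, _, hA, ⟨e⟩⟩ := Groth.Agent.S0499.result R S
  haveI := hA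
  have hs : Subsingleton ι := ⟨fun i j => by_contra fun hij => by
    have h0 : e.symm (Pi.single i 1) * e.symm (Pi.single j 1) = 0 := by
      rw [← map_mul]
      convert map_zero e.symm
      ext k
      by_cases hk : k = i
      · subst hk; simp [hij]
      · simp [hk]
    rcases mul_eq_zero.1 h0 with h | h
    · simpa using congrFun (e.symm.injective (h.trans (map_zero e.symm).symm)) i
    · simpa using congrFun (e.symm.injective (h.trans (map_zero e.symm).symm)) j⟩
  have hne : Nonempty ι := by
    by_contra h
    haveI := not_nonempty_iff.1 h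
    exact one_ne_zero (α := S) (e.injective (Subsingleton.elim _ _))
  obtain ⟨i⟩ := hne
  haveI : Unique ι := uniqueOfSubsingleton i
  exact ((RingEquiv.piUnique A).symm.trans e.symm).isLocalRing

section Residue

variable (R : Type u) [CommRing R] [IsLocalRing R] [IsAlgClosed (ResidueField R)] {B : Type u} [CommRing B]
  [IsLocalRing B] [Algebra R B] [IsLocalHom (algebraMap R B)] [Algebra.IsIntegral R B]

theorem residue_map_surjective : Function.Surjective (ResidueField.map (algebraMap R B)) := by
  intro z
  obtain ⟨b, rfl⟩ := Ideal.Quotient.mk_surjective z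
  obtain ⟨p, hp, h0⟩ := Algebra.IsIntegral.isIntegral (R := R) b
  obtain ⟨c, hc⟩ := (IsAlgClosed.splits (p.map (residue R))).mem_range_of_isRoot (hp.map _).ne_zero
    (i := ResidueField.map (algebraMap R B)) (x := residue B b) (by
      have e : (ResidueField.map (algebraMap R B)).comp (residue R) = (residue B).comp (algebraMap R B) :=
        RingHom.ext fun r => ResidueField.map_residue _ r
      rw [Polynomial.map_map, e, ← Polynomial.map_map, IsRoot, eval_map_apply, eval_map, h0, map_zero])
  exact ⟨c, hc⟩

theorem exists_sub_mem (b : B) : ∃ r : R, b - algebraMap R B r ∈ maximalIdeal B := by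
  obtain ⟨c, hc⟩ := residue_map_surjective R (residue B b)
  obtain ⟨r, rfl⟩ := Ideal.Quotient.mk_surjective c
  exact ⟨r, Ideal.Quotient.eq.1 (hc.symm.trans (ResidueField.map_residue _ r))⟩

include R in
theorem isAlgClosed_residueField : IsAlgClosed (ResidueField B) :=
  IsAlgClosed.of_ringEquiv _ _ (RingEquiv.ofBijective (ResidueField.map (algebraMap R B))
    ⟨RingHom.injective _, residue_map_surjective R⟩)

end Residue

/-- Roots of units. -/
theorem exists_pow_eq {A : Type u} [CommRing A] [HenselianLocalRing A] [IsAlgClosed (ResidueField A)]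
    [CharZero (ResidueField A)] (u : Aˣ) {n : ℕ} (hn : 0 < n) : ∃ ζ : Aˣ, ζ ^ n = u := by
  obtain ⟨c, hc⟩ := IsAlgClosed.exists_pow_nat_eq (residue A (u : A)) hn
  obtain ⟨a, rfl⟩ := Ideal.Quotient.mk_surjective c
  have ha : IsUnit a := by
    rw [← residue_ne_zero_iff_isUnit]
    intro h
    have : residue A (u : A) ≠ 0 := (residue_ne_zero_iff_isUnit _).2 u.isUnit
    rw [← hc] at this
    exact this (by rw [show (Ideal.Quotient.mk (maximalIdeal A) a) = 0 from h, zero_pow hn.ne'])
  obtain ⟨z, hz, -⟩ := HenselianLocalRing.is_henselian (X ^ n - C (u : A)) (monic_X_pow_sub_C _ hn.ne') a (by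
      rw [← Ideal.Quotient.eq_zero_iff_mem]
      show residue A _ = 0
      rw [eval_sub, eval_pow, eval_X, eval_C, map_sub, map_pow]
      exact sub_eq_zero.2 hc) (by
      rw [derivative_sub, derivative_C, sub_zero, derivative_X_pow, eval_mul, eval_C, eval_pow, eval_X]
      refine IsUnit.mul ?_ (ha.pow _)
      rw [← residue_ne_zero_iff_isUnit, map_natCast]
      exact_mod_cast hn.ne')
  have hz' : z ^ n = u := by simpa [IsRoot, sub_eq_zero] using hz
  have hzu : IsUnit z := (isUnit_pow_iff hn.ne').1 (hz' ▸ u.isUnit)
  exact ⟨hzu.unit, Units.ext (by simpa using hz')⟩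

section Structure

variable {R : Type u} [CommRing R] [IsDomain R] [IsDiscreteValuationRing R] [HenselianLocalRing R]
  [IsAlgClosed (ResidueField R)] [CharZero (ResidueField R)]
  {K Ω : Type u} [Field K] [Algebra R K] [IsFractionRing R K] [Field Ω] [Algebra K Ω] [IsSepClosure K Ω]
  [Algebra R Ω] [IsScalarTower R K Ω]

/-- Every finite extension is generated by a root of a uniformizer. -/
theorem exists_mem_adjoin_root {π : R} (hπ : Irreducible π) (x : Ω) :
    ∃ n : ℕ, 0 < n ∧ ∃ y : Ω, y ^ n = algebraMap R Ω π ∧ x ∈ IntermediateField.adjoin K {y} := by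
  let L : IntermediateField K Ω := IntermediateField.adjoin K {x}
  haveI : FiniteDimensional K L := IntermediateField.adjoin.finiteDimensional (Algebra.IsIntegral.isIntegral x)
  haveI : IsScalarTower R L Ω := IsScalarTower.of_algebraMap_eq fun r => by
    rw [IsScalarTower.algebraMap_apply R K L, ← IsScalarTower.algebraMap_apply K L Ω, ← IsScalarTower.algebraMap_apply]
  let B := integralClosure R L
  haveI : Algebra.IsSeparable K L := inferInstance
  haveI : IsIntegralClosure B R L := inferInstance
  haveI : Module.Finite R B := IsIntegralClosure.finite R K L B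
  haveI : IsDedekindDomain B := integralClosure.isDedekindDomain R K L
  haveI : IsFractionRing B L := IsIntegralClosure.isFractionRing_of_finite_extension R K L B
  haveI := isLocalRing_of_finite_domain R B
  have hinj : Function.Injective (algebraMap R B) := fun a b h => IsFractionRing.injective R K
    ((algebraMap K L).injective (by
      rw [← IsScalarTower.algebraMap_apply, ← IsScalarTower.algebraMap_apply, IsScalarTower.algebraMap_apply R B L,
        h, ← IsScalarTower.algebraMap_apply]))
  have hB : ¬IsField B := fun h => IsDiscreteValuationRing.not_isField R (isField_of_isIntegral_of_isField hinj h)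
  haveI : IsDiscreteValuationRing B := ((IsDiscreteValuationRing.TFAE B hB).out 0 2).2 ‹IsDedekindDomain B›
  haveI := Groth.Agent.S0505.result R B
  haveI : IsLocalHom (algebraMap R B) := (algebraMap_isIntegral_iff.2 (inferInstance : Algebra.IsIntegral R B)).isLocalHom hinj
  haveI : Algebra.IsIntegral R B := inferInstance
  haveI := isAlgClosed_residueField R (B := B)
  haveI : CharZero (ResidueField B) := charZero_of_injective_ringHom (ResidueField.map (algebraMap R B)).injective
  obtain ⟨ϖ, hϖ⟩ := IsDiscreteValuationRing.exists_irreducible B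
  obtain ⟨n, ε, hn⟩ := IsDiscreteValuationRing.eq_unit_mul_pow_irreducible
    (fun h => hπ.ne_zero (hinj (h.trans (map_zero _).symm)) : algebraMap R B π ≠ 0) hϖ
  have hn0 : 0 < n := by
    rcases Nat.eq_zero_or_pos n with rfl | h
    · exact absurd ((isUnit_map_iff (algebraMap R B) π).1 (by rw [hn, pow_zero, mul_one]; exact ε.isUnit)) hπ.not_isUnit
    · exact h
  obtain ⟨ζ, hζ⟩ := exists_pow_eq ε hn0
  let y₀ : B := ζ * ϖ
  have hy₀ : y₀ ^ n = algebraMap R B π := by rw [mul_pow, ← Units.val_pow_eq_pow_val, hζ, hn]
  have hmax : maximalIdeal B = Ideal.span {y₀} := by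
    rw [hϖ.maximalIdeal_eq]
    exact (Ideal.span_singleton_mul_left_unit ζ.isUnit ϖ).symm
  let A := Algebra.adjoin R {y₀}
  have hstep : ∀ (k : ℕ) (b : B), ∃ a ∈ A, ∃ c : B, b = a + y₀ ^ k * c := by
    intro k
    induction k with
    | zero => exact fun b => ⟨0, zero_mem _, b, by simp⟩
    | succ k ih =>
      intro b
      obtain ⟨a, ha, c, rfl⟩ := ih b
      obtain ⟨r, hr⟩ := exists_sub_mem R c
      rw [hmax, Ideal.mem_span_singleton'] at hr
      obtain ⟨d, hd⟩ := hr
      refine ⟨a + y₀ ^ k * algebraMap R B r, add_mem ha (mul_mem (pow_mem (Algebra.self_mem_adjoin_singleton R y₀) k)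
        (Subalgebra.algebraMap_mem _ r)), d, ?_⟩
      linear_combination (-(y₀ ^ k)) * hd
  have htop : (⊤ : Submodule R B) ≤ A.toSubmodule := by
    refine Submodule.le_of_le_smul_of_le_jacobson_bot Module.Finite.fg_top
      (maximalIdeal_le_jacobson _) fun b _ => ?_
    obtain ⟨a, ha, c, rfl⟩ := hstep n b
    refine Submodule.add_mem_sup ha ?_
    rw [hy₀, ← Algebra.smul_def]
    exact Submodule.smul_mem_smul ((mem_maximalIdeal π).2 hπ.not_isUnit) trivial
  refine ⟨n, hn0, algebraMap L Ω (algebraMap B L y₀), ?_, ?_⟩
  · rw [← map_pow, ← map_pow, hy₀, ← IsScalarTower.algebraMap_apply R B L, ← IsScalarTower.algebraMap_apply R L Ω]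
  · obtain ⟨b, c, -, hbc⟩ := IsFractionRing.div_surjective (A := B)
      (⟨x, IntermediateField.mem_adjoin_simple_self K x⟩ : L)
    have hmem : ∀ b : B, algebraMap L Ω (algebraMap B L b) ∈
        IntermediateField.adjoin K {algebraMap L Ω (algebraMap B L y₀)} := fun b => by
      have hb : b ∈ A := htop trivial
      induction hb using Algebra.adjoin_induction with
      | mem z hz =>
        obtain rfl := Set.mem_singleton_iff.1 hz
        exact IntermediateField.mem_adjoin_simple_self K _
      | algebraMap r =>
        rw [← IsScalarTower.algebraMap_apply R B L, ← IsScalarTower.algebraMap_apply R L Ω,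
          IsScalarTower.algebraMap_apply R K Ω]
        exact IntermediateField.algebraMap_mem _ _
      | add p q _ _ hp hq => simp only [map_add]; exact add_mem hp hq
      | mul p q _ _ hp hq => simp only [map_mul]; exact mul_mem hp hq
    have e := congrArg (algebraMap L Ω) hbc
    rw [map_div₀] at e
    show (algebraMap L Ω) (⟨x, IntermediateField.mem_adjoin_simple_self K x⟩ : L) ∈ _
    rw [← e]
    exact div_mem (hmem b) (hmem c)

end Structure

section Pushout

variable (R K Ω : Type u) [CommRing R] [IsDomain R] [IsDiscreteValuationRing R] [HenselianLocalRing R]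
  [IsAlgClosed (ResidueField R)] [CharZero (ResidueField R)]
  [Field K] [Algebra R K] [IsFractionRing R K] [Field Ω] [Algebra K Ω] [IsSepClosure K Ω] [Algebra R Ω]
  [IsScalarTower R K Ω]
  (R' K' Ω' : Type u) [CommRing R'] [IsDomain R'] [IsDiscreteValuationRing R'] [HenselianLocalRing R']
  [IsAlgClosed (ResidueField R')] [CharZero (ResidueField R')]
  [Algebra R R'] [Field K'] [Algebra R' K'] [IsFractionRing R' K'] [Field Ω'] [Algebra K' Ω'] [IsSepClosure K' Ω']
  [Algebra R' Ω'] [IsScalarTower R' K' Ω'] [Algebra Ω Ω'] [Algebra R Ω'] [IsScalarTower R Ω Ω'] [IsScalarTower R R' Ω']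

include K K' in
/-- An unramified extension of such rings makes a cocartesian square of separable closures. -/
theorem isPushout_sepClosure {π : R} (hπ : Irreducible π) (hπ' : Irreducible (algebraMap R R' π))
    (hinj : Function.Injective (algebraMap R R')) : Algebra.IsPushout R Ω R' Ω' := by
  letI : Algebra R K' := ((algebraMap R' K').comp (algebraMap R R')).toAlgebra
  haveI : IsScalarTower R R' K' := IsScalarTower.of_algebraMap_eq' rfl
  have hinjK : Function.Injective (algebraMap R K') := (IsFractionRing.injective R' K').comp hinj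
  letI : Algebra K K' := (IsFractionRing.lift hinjK : K →+* K').toAlgebra
  haveI : IsScalarTower R K K' :=
    IsScalarTower.of_algebraMap_eq fun r => (IsFractionRing.lift_algebraMap hinjK r).symm
  letI : Algebra K Ω' := ((algebraMap Ω Ω').comp (algebraMap K Ω)).toAlgebra
  haveI : IsScalarTower K Ω Ω' := IsScalarTower.of_algebraMap_eq' rfl
  haveI : IsScalarTower R K' Ω' := IsScalarTower.of_algebraMap_eq fun r => by
    rw [IsScalarTower.algebraMap_apply R R' Ω', IsScalarTower.algebraMap_apply R' K' Ω',
      IsScalarTower.algebraMap_apply R R' K']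
  haveI : IsScalarTower K K' Ω' := by
    refine IsScalarTower.of_algebraMap_eq' (IsLocalization.ringHom_ext (nonZeroDivisors R) (RingHom.ext fun r => ?_))
    show algebraMap Ω Ω' (algebraMap K Ω (algebraMap R K r)) = algebraMap K' Ω' (algebraMap K K' (algebraMap R K r))
    rw [← IsScalarTower.algebraMap_apply R K Ω, ← IsScalarTower.algebraMap_apply R Ω Ω',
      ← IsScalarTower.algebraMap_apply R K K', ← IsScalarTower.algebraMap_apply R K' Ω']
  haveI : IsLocalization (Algebra.algebraMapSubmonoid R' (nonZeroDivisors R)) K' := by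
    refine (isLocalization_iff _ _).2 ⟨fun y => ?_, fun z => ?_, fun {x y} h => ⟨1, by
      rw [IsFractionRing.injective R' K' h]⟩⟩
    · obtain ⟨_, r, hr, rfl⟩ := y
      refine isUnit_iff_ne_zero.2 ?_
      rw [← IsScalarTower.algebraMap_apply]
      simpa using hinjK.ne (nonZeroDivisors.ne_zero hr)
    · obtain ⟨a, b, hb, rfl⟩ := IsFractionRing.div_surjective (A := R') z
      obtain ⟨n, ε, hn⟩ := IsDiscreteValuationRing.eq_unit_mul_pow_irreducible (nonZeroDivisors.ne_zero hb) hπ'
      refine ⟨⟨a * ↑ε⁻¹, ⟨algebraMap R R' (π ^ n), π ^ n, mem_nonZeroDivisors_of_ne_zero (pow_ne_zero _ hπ.ne_zero), rfl⟩⟩, ?_⟩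
      have hb0 : algebraMap R' K' b ≠ 0 := IsFractionRing.to_map_ne_zero_of_mem_nonZeroDivisors hb
      show algebraMap R' K' a / algebraMap R' K' b * algebraMap R' K' (algebraMap R R' (π ^ n)) = _
      rw [div_mul_eq_mul_div, div_eq_iff hb0, ← map_mul, ← map_mul]
      refine congrArg (algebraMap R' K') (?_ : a * algebraMap R R' (π ^ n) = a * ↑ε⁻¹ * b)
      rw [hn, map_pow, mul_assoc, ← mul_assoc (↑ε⁻¹ : R'), Units.inv_mul, one_mul]
  haveI : Algebra.IsPushout R K R' K' := (Algebra.isPushout_of_isLocalization (nonZeroDivisors R) K R' K').symm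
  haveI : IsGalois K Ω := IsSepClosure.isGalois
  haveI : CharZero R := ((residue R).charZero)
  haveI : CharZero K := charZero_of_injective_ringHom (IsFractionRing.injective R K)
  haveI : IsSepClosed Ω := IsSepClosure.sep_closed K
  have hroots : ∀ (n : ℕ), 0 < n → ∀ y : Ω', y ^ n = algebraMap R Ω' π → ∃ w : Ω, algebraMap Ω Ω' w = y := by
    intro n hn y hy
    have hsep : (X ^ n - C (algebraMap R Ω π)).Separable := by
      haveI : CharZero Ω := charZero_of_injective_ringHom (algebraMap K Ω).injective
      refine separable_X_pow_sub_C _ (by exact_mod_cast hn.ne') ?_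
      rw [IsScalarTower.algebraMap_apply R K Ω]
      simpa using (IsFractionRing.injective R K).ne hπ.ne_zero
    obtain ⟨w, hw⟩ := (IsSepClosed.splits_of_separable _ hsep).mem_range_of_isRoot (monic_X_pow_sub_C _ hn.ne').ne_zero
      (i := algebraMap Ω Ω') (x := y) (by simp [IsRoot, hy, ← IsScalarTower.algebraMap_apply])
    exact ⟨w, hw⟩
  have hac : ∀ a : K', IsIntegral K a → a ∈ (algebraMap K K').range := by
    intro a ha
    have hsplit : ((minpoly K a).map (algebraMap K Ω)).Splits :=
      IsSepClosed.splits_of_separable _ ((minpoly.irreducible ha).separable.map)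
    obtain ⟨x, hx⟩ := hsplit.mem_range_of_isRoot (Polynomial.map_ne_zero (minpoly.ne_zero ha))
      (i := algebraMap Ω Ω') (x := algebraMap K' Ω' a) (by
        rw [Polynomial.map_map, ← IsScalarTower.algebraMap_eq, IsRoot, eval_map_algebraMap,
          aeval_algebraMap_apply, minpoly.aeval, map_zero])
    obtain ⟨n, hn, y, hy, hxy⟩ := exists_mem_adjoin_root (K := K) hπ x
    have hyint : IsIntegral K y := Algebra.IsIntegral.isIntegral y
    rw [← IntermediateField.mem_toSubalgebra,
      IntermediateField.adjoin_simple_toSubalgebra_of_isAlgebraic hyint.isAlgebraic,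
      Algebra.adjoin_singleton_eq_range_aeval] at hxy
    obtain ⟨P, rfl⟩ := hxy
    let q : K[X] := X ^ n - C (algebraMap R K π)
    have hq : q.Monic := monic_X_pow_sub_C _ hn.ne'
    have hqy : aeval y q = 0 := by simp [q, hy, ← IsScalarTower.algebraMap_apply]
    let P' := P %ₘ q
    have hP' : aeval y P' = aeval y P := Polynomial.aeval_modByMonic_eq_self_of_root (p := P) hqy
    let y' : Ω' := algebraMap Ω Ω' y
    have hy'K : IsIntegral K' y' := Algebra.IsIntegral.isIntegral y'
    have hirr : Irreducible (X ^ n - C (algebraMap R' K' (algebraMap R R' π)) : K'[X]) := by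
      have h1 : Irreducible (X ^ n - C (algebraMap R R' π) : R'[X]) := by
        refine IsEisensteinAt.irreducible (𝓟 := maximalIdeal R') ⟨?_, fun {i} hi => ?_, ?_⟩ inferInstance
          (monic_X_pow_sub_C _ hn.ne').isPrimitive (by rw [natDegree_X_pow_sub_C]; exact hn)
        · rw [(monic_X_pow_sub_C _ hn.ne').leadingCoeff]
          exact fun h => (maximalIdeal.isMaximal R').ne_top ((Ideal.eq_top_iff_one _).2 h)
        · rw [natDegree_X_pow_sub_C] at hi
          rw [coeff_sub, coeff_X_pow, if_neg hi.ne, coeff_C, zero_sub]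
          split_ifs
          · exact neg_mem ((mem_maximalIdeal _).2 hπ'.not_isUnit)
          · simp
        · rw [coeff_sub, coeff_X_pow, if_neg hn.ne, coeff_C_zero, zero_sub, hπ'.maximalIdeal_eq,
            Ideal.span_singleton_pow, Ideal.mem_span_singleton, dvd_neg]
          intro ⟨c, hc⟩
          refine hπ'.not_isUnit (IsUnit.of_mul_eq_one c (mul_left_cancel₀ hπ'.ne_zero ?_))
          linear_combination -hc
      have h2 := ((monic_X_pow_sub_C (algebraMap R R' π) hn.ne').irreducible_iff_irreducible_map_fraction_map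
        (K := K')).1 h1
      simpa using h2
    have hmin : X ^ n - C (algebraMap R' K' (algebraMap R R' π)) = minpoly K' y' :=
      minpoly.eq_of_irreducible_of_monic hirr (by
        rw [map_sub, map_pow, aeval_X, aeval_C, ← map_pow, hy, ← IsScalarTower.algebraMap_apply R Ω Ω',
          ← IsScalarTower.algebraMap_apply R' K' Ω', ← IsScalarTower.algebraMap_apply R R' Ω', sub_self]) (monic_X_pow_sub_C _ hn.ne')
    let Q := P'.map (algebraMap K K') - C a
    have hQ0 : aeval y' Q = 0 := by
      rw [map_sub, aeval_C, aeval_map_algebraMap, aeval_algebraMap_apply, hP', sub_eq_zero]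
      exact hx
    have hdeg : Q.degree < (minpoly K' y').degree := by
      rw [← hmin, degree_X_pow_sub_C hn]
      refine (degree_sub_le _ _).trans_lt (max_lt ?_ ((degree_C_le).trans_lt (by exact_mod_cast hn)))
      refine (degree_map_le).trans_lt ?_
      exact (degree_modByMonic_lt P hq).trans_le (degree_X_pow_sub_C hn _).le
    have hQ : Q = 0 := by
      by_contra h
      exact absurd (minpoly.degree_le_of_ne_zero K' y' h hQ0) (not_le.2 hdeg)
    refine ⟨P'.coeff 0, ?_⟩
    have := congrArg (fun p => p.coeff 0) hQ
    simp only [Q, coeff_sub, coeff_map, coeff_C_zero, coeff_zero] at this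
    exact sub_eq_zero.1 this
  have hsurj : Function.Surjective (TraitCplLib.mu K K' Ω Ω') := by
    intro x
    obtain ⟨n, hn, y, hy, hxy⟩ := exists_mem_adjoin_root (K := K') hπ' x
    obtain ⟨w, hw⟩ := hroots n hn y (by rw [hy, ← IsScalarTower.algebraMap_apply])
    have hF : (IntermediateField.adjoin K' {y}).toSubalgebra ≤ (TraitCplLib.mu K K' Ω Ω').range := by
      rw [IntermediateField.adjoin_simple_toSubalgebra_of_isAlgebraic (Algebra.IsAlgebraic.isAlgebraic y)]
      exact Algebra.adjoin_le (Set.singleton_subset_iff.2 ⟨1 ⊗ₜ w, by simp [TraitCplLib.mu_tmul, hw]⟩)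
    exact hF hxy
  haveI : Algebra.IsPushout K K' Ω Ω' := ⟨IsBaseChange.of_equiv
    (AlgEquiv.ofBijective (TraitCplLib.mu K K' Ω Ω') ⟨TraitCplLib.mu_injective hac, hsurj⟩).toLinearEquiv
    fun w => by simp [TraitCplLib.mu_tmul]⟩
  exact (Algebra.IsPushout.comp_iff (R := R) (S := K) (R' := R') (S' := K') (T := Ω) (T' := Ω')).2
    (Algebra.IsPushout.symm ‹Algebra.IsPushout K K' Ω Ω'›)

end Pushout

end TraitCharZeroLib
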