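import Groth.Agent.EtBcQLib.Tower

/-!
# Base change in degree zero and a factorisation of both legs through an intermediate scheme
-/

set_option autoImplicit false
set_option linter.all false
set_option backward.isDefEq.respectTransparency false
set_option backward.isDefEq.respectTransparency.types false
set_option synthInstance.maxHeartbeats 400000
set_option maxHeartbeats 1600000

universe u

open CategoryTheory CategoryTheory.Limits AlgebraicGeometry Opposite
open Groth.Agent.EtShLib EtBcQLib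

noncomputable section

namespace TraitCharZeroLib

attribute [local instance] EtSliceLib.pullExact

section Square

variable {X Y X' Y' : Scheme.{u}} (f : X ⟶ Y) (g : Y' ⟶ Y) (f' : X' ⟶ Y') (g' : X' ⟶ X) (w : g' ≫ f = f' ≫ g)

/-- The comparison of base changes along a commutative square. -/
def sqH (W : Y.Etale) : (EtCoh.bc f').obj ((EtCoh.bc g).obj W) ⟶ (EtCoh.bc g').obj ((EtCoh.bc f).obj W) :=
  (MorphismProperty.Over.pullbackComp (P := EtCoh.etaleMP) (Q := ⊤) f' g).inv.app W ≫
    (MorphismProperty.Over.pullbackCongr (P := EtCoh.etaleMP) (Q := ⊤) w).inv.app W ≫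
    (MorphismProperty.Over.pullbackComp (P := EtCoh.etaleMP) (Q := ⊤) g' f).hom.app W

theorem sqH_fst (W : Y.Etale) :
    (sqH f g f' g' w W).left ≫ pullback.fst (pullback.snd W.hom f) g' ≫ pullback.fst W.hom f =
      pullback.fst (pullback.snd W.hom g) f' ≫ pullback.fst W.hom g := by
  let a := (MorphismProperty.Over.pullbackComp (P := EtCoh.etaleMP) (Q := ⊤) f' g).app W
  let k := (MorphismProperty.Over.pullbackCongr (P := EtCoh.etaleMP) (Q := ⊤) w).app W
  let b := (MorphismProperty.Over.pullbackComp (P := EtCoh.etaleMP) (Q := ⊤) g' f).app W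
  have hb : (sqH f g f' g' w W).left = a.inv.left ≫ k.inv.left ≫ b.hom.left := rfl
  haveI : IsIso a.hom.left := ⟨a.inv.left, congrArg (fun t => t.left) a.hom_inv_id, congrArg (fun t => t.left) a.inv_hom_id⟩
  haveI : IsIso k.hom.left := ⟨k.inv.left, congrArg (fun t => t.left) k.hom_inv_id, congrArg (fun t => t.left) k.inv_hom_id⟩
  have ha' : a.hom.left ≫ a.inv.left = 𝟙 _ := congrArg (fun t => t.left) a.hom_inv_id
  have hk' : k.hom.left ≫ k.inv.left = 𝟙 _ := congrArg (fun t => t.left) k.hom_inv_id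
  rw [hb, ← cancel_epi a.hom.left, ← cancel_epi k.hom.left]
  simp only [Category.assoc]
  rw [reassoc_of% ha', reassoc_of% hk']
  have a1 : a.hom.left ≫ pullback.fst (pullback.snd W.hom g) f' ≫ pullback.fst W.hom g = pullback.fst W.hom (f' ≫ g) :=
    MorphismProperty.Over.pullbackComp_left_fst_fst _ _ _
  have b1 : b.hom.left ≫ pullback.fst (pullback.snd W.hom f) g' ≫ pullback.fst W.hom f = pullback.fst W.hom (g' ≫ f) :=
    MorphismProperty.Over.pullbackComp_left_fst_fst _ _ _
  have k1 : k.hom.left ≫ pullback.fst W.hom (f' ≫ g) = pullback.fst W.hom (g' ≫ f) :=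
    MorphismProperty.Over.pullbackCongr_hom_app_left_fst _ _
  exact b1.trans (k1.symm.trans (congrArg (k.hom.left ≫ ·) a1.symm))

/-- Base change in degree zero on a section, for a commutative square. -/
theorem unit_bc0_gen (F : EtCoh.Ab X) (V : Y.Etale) (t : ToType (((EtCoh.push f).obj F).obj.obj (op V))) :
    (EtCoh.baseChange0 f g f' g' w F).hom.app (op ((EtCoh.bc g).obj V))
        (((EtCoh.pullPushAdj g).unit.app ((EtCoh.push f).obj F)).hom.app (op V) t) =
      ((EtCoh.pull g').obj F).obj.map (sqH f g f' g' w V).op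
        (((EtCoh.pullPushAdj g').unit.app F).hom.app (op ((EtCoh.bc f).obj V)) t) := by
  have h := Equiv.apply_symm_apply ((EtCoh.pullPushAdj g).homEquiv ((EtCoh.push f).obj F)
    ((EtCoh.push f').obj ((EtCoh.pull g').obj F)))
    ((EtCoh.push f).map ((EtCoh.pullPushAdj g').unit.app F) ≫ (EtCoh.pushComp f g').hom.app _ ≫
      (EtCoh.pushCongr w).hom.app _ ≫ (EtCoh.pushComp g f').inv.app _)
  rw [Adjunction.homEquiv_unit] at h
  refine (congrArg (fun z : (EtCoh.push f).obj F ⟶ _ => z.hom.app (op V) t) h).trans ?_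
  rw [sqH, op_comp, op_comp, Functor.map_comp, Functor.map_comp]
  simp [EtCoh.pushComp, EtCoh.pushCongr]
  rfl

end Square

/-- Two maps into a base change have the same structure map after the first projection. -/
theorem fst_struct {A B : Scheme.{u}} (e : A ⟶ B) {T : A.Etale} {U : B.Etale} (a b : T ⟶ (EtCoh.bc e).obj U) :
    (a.left ≫ pullback.fst U.hom e) ≫ U.hom = (b.left ≫ pullback.fst U.hom e) ≫ U.hom := by
  have ha : a.left ≫ pullback.snd U.hom e = T.hom := MorphismProperty.Over.w a
  have hb : b.left ≫ pullback.snd U.hom e = T.hom := MorphismProperty.Over.w b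
  rw [Category.assoc, pullback.condition, ← Category.assoc, Category.assoc b.left, pullback.condition,
    ← Category.assoc, ha]
  exact congrArg (· ≫ e) hb.symm

variable {T Y S Z W : Scheme.{u}} (j : T ⟶ Y) (g : Y ⟶ S) (jS : T ⟶ S) (w1 : j ≫ g = jS)

/-- The direct image along a composite, pulled back along the second map. -/
def nu : EtCoh.push jS ⋙ EtCoh.pull g ⟶ EtCoh.push j where
  app M := ((EtCoh.pullPushAdj g).homEquiv _ _).symm
    ((EtCoh.pushCongr w1.symm).hom.app M ≫ (EtCoh.pushComp g j).inv.app M)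
  naturality M N a := by
    dsimp only [Functor.comp_map]
    rw [← Adjunction.homEquiv_naturality_left_symm, ← Adjunction.homEquiv_naturality_right_symm]
    refine congrArg _ ?_
    rw [← Category.assoc, (EtCoh.pushCongr w1.symm).hom.naturality, Category.assoc, Category.assoc]
    exact congrArg (_ ≫ ·) ((EtCoh.pushComp g j).inv.naturality a)

theorem unit_nu (M : EtCoh.Ab T) (V : S.Etale) (t : ToType (((EtCoh.push jS).obj M).obj.obj (op V))) :
    ((nu j g jS w1).app M).hom.app (op ((EtCoh.bc g).obj V))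
        (((EtCoh.pullPushAdj g).unit.app ((EtCoh.push jS).obj M)).hom.app (op V) t) =
      M.obj.map (DescSecLib.bcCompHom j g jS w1 V).op t := by
  have h := Equiv.apply_symm_apply ((EtCoh.pullPushAdj g).homEquiv ((EtCoh.push jS).obj M)
    ((EtCoh.push j).obj M)) ((EtCoh.pushCongr w1.symm).hom.app M ≫ (EtCoh.pushComp g j).inv.app M)
  rw [Adjunction.homEquiv_unit] at h
  refine (congrArg (fun z : (EtCoh.push jS).obj M ⟶ _ => z.hom.app (op V) t) h).trans ?_
  have e : DescSecLib.bcCompHom j g jS w1 V =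
      ((MorphismProperty.Over.pullbackComp (P := EtCoh.etaleMP) (Q := ⊤) j g).inv.app V ≫
        (MorphismProperty.Over.pullbackCongr (P := EtCoh.etaleMP) (Q := ⊤) w1.symm).inv.app V :
          (EtCoh.bc j).obj ((EtCoh.bc g).obj V) ⟶ (EtCoh.bc jS).obj V) := by
    let a := (MorphismProperty.Over.pullbackComp (P := EtCoh.etaleMP) (Q := ⊤) j g).app V
    let k := (MorphismProperty.Over.pullbackCongr (P := EtCoh.etaleMP) (Q := ⊤) w1.symm).app V
    show _ = a.inv ≫ k.inv
    rw [← cancel_epi a.hom, a.hom_inv_id_assoc, ← cancel_epi k.hom, k.hom_inv_id]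
    refine DescSecLib.bc_hom_ext jS _ _ ?_
    show (k.hom.left ≫ a.hom.left ≫ (DescSecLib.bcCompHom j g jS w1 V).left) ≫ _ = 𝟙 _ ≫ _
    rw [Category.id_comp, Category.assoc, Category.assoc, DescSecLib.bcCompHom_fst]
    have a1 : a.hom.left ≫ pullback.fst (pullback.snd V.hom g) j ≫ pullback.fst V.hom g = pullback.fst V.hom (j ≫ g) :=
      MorphismProperty.Over.pullbackComp_left_fst_fst _ _ _
    exact (congrArg (k.hom.left ≫ ·) a1).trans (MorphismProperty.Over.pullbackCongr_hom_app_left_fst _ _)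
  rw [e, op_comp, Functor.map_comp]
  simp [EtCoh.pushComp, EtCoh.pushCongr]
  rfl

variable (p : W ⟶ Y) (q : W ⟶ S) (w2 : p ≫ g = q) (h : Z ⟶ W) (e : Z ⟶ T) (w3 : e ≫ j = h ≫ p)
  (w4 : e ≫ jS = h ≫ q)

/-- The base change of the composite is the composite. -/
theorem bc0_factor (M : EtCoh.Ab T) :
    (cVia p g q w2).app ((EtCoh.push jS).obj M) ≫ EtCoh.baseChange0 jS q h e w4 M =
      (EtCoh.pull p).map ((nu j g jS w1).app M) ≫ EtCoh.baseChange0 j p h e w3 M := by
  refine pullPull_hom_ext p g _ _ fun V t => ?_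
  have hl := congrArg ((EtCoh.baseChange0 jS q h e w4 M).hom.app (op ((EtCoh.bc p).obj ((EtCoh.bc g).obj V))))
    (unit_cVia p g q w2 ((EtCoh.push jS).obj M) V t)
  refine hl.trans ?_
  refine (NatTrans.naturality_apply (EtCoh.baseChange0 jS q h e w4 M).hom _ _).trans ?_
  refine (congrArg _ (unit_bc0_gen jS q h e w4 M V t)).trans ?_
  show ((EtCoh.pull e).obj M).obj.map ((EtCoh.bc h).map (DescSecLib.bcCompHom p g q w2 V)).op
    (((EtCoh.pull e).obj M).obj.map (sqH jS q h e w4 V).op
      (((EtCoh.pullPushAdj e).unit.app M).hom.app (op ((EtCoh.bc jS).obj V)) t)) = _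
  symm
  let U := (EtCoh.bc g).obj V
  have h1 : ((EtCoh.pull p).map ((nu j g jS w1).app M)).hom.app (op ((EtCoh.bc p).obj U))
      (((EtCoh.pullPushAdj p).unit.app ((EtCoh.pull g).obj ((EtCoh.push jS).obj M))).hom.app (op U)
        (((EtCoh.pullPushAdj g).unit.app ((EtCoh.push jS).obj M)).hom.app (op V) t)) =
      ((EtCoh.pullPushAdj p).unit.app ((EtCoh.push j).obj M)).hom.app (op U)
        (M.obj.map (DescSecLib.bcCompHom j g jS w1 V).op t) := by
    rw [← unit_nu j g jS w1 M V t]
    exact (congrArg (fun z : (EtCoh.pull g).obj ((EtCoh.push jS).obj M) ⟶ _ => z.hom.app (op U)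
      (((EtCoh.pullPushAdj g).unit.app ((EtCoh.push jS).obj M)).hom.app (op V) t))
      ((EtCoh.pullPushAdj p).unit.naturality ((nu j g jS w1).app M))).symm
  show (EtCoh.baseChange0 j p h e w3 M).hom.app (op ((EtCoh.bc p).obj U))
      (((EtCoh.pull p).map ((nu j g jS w1).app M)).hom.app (op ((EtCoh.bc p).obj U))
        (((EtCoh.pullPushAdj p).unit.app ((EtCoh.pull g).obj ((EtCoh.push jS).obj M))).hom.app (op U)
          (((EtCoh.pullPushAdj g).unit.app ((EtCoh.push jS).obj M)).hom.app (op V) t))) = _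
  rw [h1]
  refine (unit_bc0_gen j p h e w3 M U _).trans ?_
  refine (congrArg _ (NatTrans.naturality_apply ((EtCoh.pullPushAdj e).unit.app M).hom
    (DescSecLib.bcCompHom j g jS w1 V).op t)).trans ?_
  show ((EtCoh.pull e).obj M).obj.map (sqH j p h e w3 U).op
    (((EtCoh.pull e).obj M).obj.map ((EtCoh.bc e).map (DescSecLib.bcCompHom j g jS w1 V)).op _) = _
  refine ((ConcreteCategory.congr_hom (((EtCoh.pull e).obj M).obj.map_comp
    ((EtCoh.bc e).map (DescSecLib.bcCompHom j g jS w1 V)).op (sqH j p h e w3 U).op) _).symm).trans ?_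
  refine Eq.trans ?_ (ConcreteCategory.congr_hom (((EtCoh.pull e).obj M).obj.map_comp
    (sqH jS q h e w4 V).op ((EtCoh.bc h).map (DescSecLib.bcCompHom p g q w2 V)).op) _)
  refine congrArg (fun m => ((EtCoh.pull e).obj M).obj.map (Quiver.Hom.op m)
    (((EtCoh.pullPushAdj e).unit.app M).hom.app (op ((EtCoh.bc jS).obj V)) t))
    (?_ : sqH j p h e w3 U ≫ (EtCoh.bc e).map (DescSecLib.bcCompHom j g jS w1 V) =
      (EtCoh.bc h).map (DescSecLib.bcCompHom p g q w2 V) ≫ sqH jS q h e w4 V)
  refine DescSecLib.bc_hom_ext e _ _ (pullback.hom_ext ?_ ?_)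
  · show (((sqH j p h e w3 U).left ≫ _) ≫ _) ≫ _ = ((_ ≫ (sqH jS q h e w4 V).left) ≫ _) ≫ _
    simp only [Category.assoc]
    erw [sqH_fst jS q h e w4 V]
    erw [reassoc_of% (DescSecLib.bc_map_fst e (DescSecLib.bcCompHom j g jS w1 V)),
      DescSecLib.bcCompHom_fst j g jS w1 V,
      reassoc_of% (DescSecLib.bc_map_fst h (DescSecLib.bcCompHom p g q w2 V)),
      DescSecLib.bcCompHom_fst p g q w2 V, reassoc_of% (sqH_fst j p h e w3 U)]
    rfl
  · exact fst_struct e _ _

end TraitCharZeroLib
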